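import Cfsg.Agent.H968.Rat.Crit
import Cfsg.Agent.H583.OdmM23Three
import Cfsg.Agent.H701.PBMathieu
import Cfsg.Agent.SporadicA.M11Facts
import Cfsg.Agent.FastGrp
import Cfsg.Agent.Prune
set_option linter.all false
prune_inst 0x7f00000000000000000000000000000000000000000000000000000000000000000000000000000000000000000000000000000000000000000000000000000000000000000000000000000000000000003fffffffffffffffffffffffffffbeffbdffffffff
open scoped Cfsg.Agent.FastGrp

/-!
# S4891, rows of the Mathieu groups, `p = 3` (helper968)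

`core_m11`, `core_m12`, `core_m22`, `core_m23`, `core_m24`.
-/

set_option autoImplicit false
set_option maxRecDepth 100000
set_option linter.unusedSectionVars false

open Cfsg Cfsg.Agent.H145.BR Subgroup
open scoped Pointwise

namespace Cfsg.Agent.H968.Rat

universe u

/-! ### centralizers of Sylow subgroups -/

theorem cent_sylow {p : ℕ} [hp : Fact p.Prime] {G : Type*} [Group G] [Finite G] {U : Subgroup G}
    (hU : IsPGroup p U) (hC : IsPGroup p (centralizer (U : Set G))) (P : Sylow p G) :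
    IsPGroup p (centralizer ((P : Subgroup G) : Set G)) := by
  obtain ⟨Q, hQ⟩ := hU.exists_le_sylow
  obtain ⟨g, hg⟩ := MulAction.exists_smul_eq G P Q
  rintro ⟨x, hx⟩
  have h1 : g * x * g⁻¹ ∈ centralizer (U : Set G) := by
    rw [mem_centralizer_iff]
    intro u hu
    have h2 : u ∈ (Q : Subgroup G) := hQ hu
    rw [← hg] at h2
    obtain ⟨y, hy, h3⟩ := (Subgroup.mem_smul_pointwise_iff_exists u (MulAut.conj g) (P : Subgroup G)).1 h2
    have h4 : u = g * y * g⁻¹ := h3.symm
    have h5 := mem_centralizer_iff.1 hx y hy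
    rw [h4]
    calc g * y * g⁻¹ * (g * x * g⁻¹) = g * (y * x) * g⁻¹ := by group
      _ = g * (x * y) * g⁻¹ := by rw [h5]
      _ = g * x * g⁻¹ * (g * y * g⁻¹) := by group
  obtain ⟨k, hk⟩ := hC ⟨_, h1⟩
  refine ⟨k, Subtype.ext ?_⟩
  have h6 : (g * x * g⁻¹) ^ p ^ k = 1 := congrArg Subtype.val hk
  rw [conj_pow] at h6
  exact conj_eq_one_iff.1 h6

theorem cent_of_hom {p : ℕ} [hp : Fact p.Prime] {G H : Type*} [Group G] [Finite G] [Group H] [Finite H] (f : H →* G)
    (hf : Function.Injective f) {U : Subgroup G} (hU : IsPGroup p U) (hC : IsPGroup p (centralizer (U : Set G)))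
    {n : ℕ} (h1 : p ^ n ∣ Nat.card H) (h2 : ¬ p ^ (n + 1) ∣ Nat.card G) (P : Sylow p H) :
    IsPGroup p (centralizer ((P : Subgroup H) : Set H)) := by
  have hm : IsPGroup p ((P : Subgroup H).map f) := P.2.map f
  obtain ⟨Q, hQ⟩ := hm.exists_le_sylow
  have hQC := cent_sylow hU hC Q
  have hcP : Nat.card ((P : Subgroup H).map f) = Nat.card (P : Subgroup H) :=
    Nat.card_congr ((P : Subgroup H).equivMapOfInjective f hf).toEquiv.symm
  have h3 : p ^ n ∣ Nat.card (P : Subgroup H) := P.pow_dvd_card_of_pow_dvd_card h1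
  obtain ⟨m, hm'⟩ := IsPGroup.iff_card.1 Q.2
  have h4 : m ≤ n := by
    by_contra hmn
    exact h2 ((pow_dvd_pow p (by omega)).trans (hm' ▸ card_subgroup_dvd_card (Q : Subgroup G)))
  have h5 : (P : Subgroup H).map f = (Q : Subgroup G) := by
    apply eq_of_le_of_card_ge hQ
    rw [hcP, hm']
    exact (Nat.pow_le_pow_right hp.out.pos h4).trans (Nat.le_of_dvd Nat.card_pos h3)
  rintro ⟨x, hx⟩
  have h6 : f x ∈ centralizer ((Q : Subgroup G) : Set G) := by
    rw [mem_centralizer_iff]
    intro u hu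
    have h7 : u ∈ (P : Subgroup H).map f := by rw [h5]; exact hu
    obtain ⟨y, hy, rfl⟩ := h7
    rw [← map_mul, ← map_mul, mem_centralizer_iff.1 hx y hy]
  obtain ⟨k, hk⟩ := hQC ⟨_, h6⟩
  refine ⟨k, Subtype.ext (hf ?_)⟩
  have h8 : (f x) ^ p ^ k = 1 := congrArg Subtype.val hk
  show f (x ^ p ^ k) = f 1
  rw [map_pow, h8, map_one]

/-! ### 4-transitive groups -/

section four

open Cfsg.Agent.H621.AltChar

variable {G : Type u} {Ω : Type*} [Group G] [Finite G] [MulAction G Ω] [Finite Ω]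

theorem exists_one (hk : 4 ≤ Nat.card Ω) (h4 : MulAction.IsMultiplyPretransitive G Ω 4) :
    ∃ χ : IrrCharacter G, (∀ g : G, (χ : G → ℂ) g = (Nat.card (MulAction.fixedBy Ω g) : ℂ) - 1) ∧
      charDegree (χ : G → ℂ) = Nat.card Ω - 1 := by
  have := Fintype.ofFinite G
  refine ⟨⟨_, irr_one (G := G) (Ω := Ω) hk h4⟩, fun g => rfl, ?_⟩
  apply Cfsg.Agent.Blocks.Basic.charDegree_of_eq
  show ((nf Ω (1 : G) : ℕ) : ℂ) - 1 = _
  rw [nf_one, Nat.cast_sub (by omega), Nat.cast_one]

theorem prat_one {p : ℕ} [hp : Fact p.Prime] {χ : IrrCharacter G}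
    (h : ∀ g : G, (χ : G → ℂ) g = (Nat.card (MulAction.fixedBy Ω g) : ℂ) - 1) : PRat p (χ : G → ℂ) :=
  pRat_of_int fun g => ⟨(Nat.card (MulAction.fixedBy Ω g) : ℤ) - 1, by rw [h]; push_cast; rfl⟩

/-- `p` divides the degree -/
theorem core_of_four_dvd {p : ℕ} [hp : Fact p.Prime] (hk : 4 ≤ Nat.card Ω)
    (h4 : MulAction.IsMultiplyPretransitive G Ω 4) (hd : p ∣ Nat.card Ω) : Core p G := by
  intro M hM
  have h1 : MulAction.IsPretransitive G Ω := by
    have h2 : MulAction.IsMultiplyPretransitive G Ω 1 :=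
      MulAction.isMultiplyPretransitive_of_le (n := 4) (by norm_num) hk
    exact MulAction.is_one_pretransitive_iff.1 h2
  obtain ⟨χ, hχ, hdeg⟩ := exists_one (G := G) hk h4
  obtain ⟨i, hi1, hi2⟩ := exists_of_dvd hM (X := Ω) hd (fun _ : Unit => χ) fun g => by
    rw [Finset.univ_unique, Finset.sum_singleton, hχ]
    ring
  exact ⟨χ, hi1, ne_one_of_deg (by rw [hdeg]; omega), hi2, prat_one hχ⟩

end four

/-! ### the rows -/

open Cfsg.Agent.H701.PBMathieu Cfsg.Agent.H852.IMMathieu Cfsg.Agent.H690.Spor.RankThree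

/-- `M12`, `p = 3` -/
theorem core_m12 {S : Type u} [Group S] (h : Cfsg.Spor.IsoM12 S) : Core 3 S := by
  obtain ⟨e⟩ := h
  have h3 : Fact (Nat.Prime 3) := ⟨Nat.prime_three⟩
  have hcard : Nat.card Spor.M12 = 95040 := Cfsg.Agent.NotCT.Orders.m12 ⟨MulEquiv.refl _⟩
  have : Finite Spor.M12 := Nat.finite_of_card_ne_zero (by rw [hcard]; norm_num)
  refine Core.congr e ?_
  obtain ⟨hinv, h4, hn⟩ := four_m12
  let _ := actOn Spor.M12 (Spor.squareDodecad : Set GolayPt) hinv
  exact core_of_four_dvd (by rw [hn]; norm_num) h4 (by rw [hn]; norm_num)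

/-- `M24`, `p = 3` -/
theorem core_m24 {S : Type u} [Group S] (h : Cfsg.Spor.IsoM24 S) : Core 3 S := by
  have hcS : Nat.card S = 244823040 := NotCT.Orders.m24 h
  obtain ⟨e⟩ := h
  have h3 : Fact (Nat.Prime 3) := ⟨Nat.prime_three⟩
  have hcard : Nat.card M24 = 244823040 := by rw [← hcS]; exact (Nat.card_congr e.toEquiv).symm
  have : Finite M24 := Nat.finite_of_card_ne_zero (by rw [hcard]; norm_num)
  refine Core.congr e ?_
  obtain ⟨h4, hn⟩ := four_m24
  exact core_of_four_dvd (by rw [hn]; norm_num) h4 (by rw [hn]; norm_num)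

section
open Cfsg.Agent.SporadicA.GolayBase Cfsg.Agent.SporadicA.GolayPerm
open Cfsg.Agent.SporadicStructure.M24El Cfsg.Agent.H729.Trans Cfsg.Agent.H729.Count Cfsg.Agent.H729.MData
open Cfsg.Agent.H729.PairMathieu Cfsg.Agent.H865.Three Cfsg.Agent.H583.OdmM23

/-- an element of order 3 commuting with `A` -/
def B3 : ℕ := 976259021213182638697806105180082223

theorem B3_ok : ok B3 = true := by decide +kernel

theorem B3_chk : (Nat.beq (papp B3 23) 23 && (Nat.beq (pcomp A B3) (pcomp B3 A) && Nat.beq (ppow B3 3) idP)) = true := by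
  decide +kernel

theorem LA_B3 : (LA.all fun P => !((List.range 24).all fun i => Nat.beq (papp (pcomp P B3) i) (papp (pcomp B3 P) i)) ||
    Nat.beq (ppow P 3) idP) = true := by
  decide +kernel

theorem cent_m23 : ∃ U : Subgroup Spor.M23, IsPGroup 3 U ∧ IsPGroup 3 (centralizer (U : Set Spor.M23)) := by
  have hB := B3_chk
  rw [Bool.and_eq_true, Bool.and_eq_true, Nat.beq_eq, Nat.beq_eq, Nat.beq_eq] at hB
  obtain ⟨hB1, hB2, hB3⟩ := hB
  obtain ⟨b, hb⟩ := H715.Fpr.MathData.exists_el23 B3_ok hB1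
  have hab : a3 * b = b * a3 := by
    apply inc23_injective
    rw [map_mul, map_mul, inc_a3, hb, ← el_pcomp okA B3_ok, ← el_pcomp B3_ok okA, hB2]
  have ha3 : a3 ^ 3 = 1 := by rw [← orderOf_a3]; exact pow_orderOf_eq_one a3
  have hb3 : b ^ 3 = 1 := by
    apply inc23_injective
    rw [map_pow, hb, ← el_ppow B3_ok, hB3, el_idP, map_one]
  refine ⟨closure {a3, b}, ?_, ?_⟩
  · have key : ∀ x ∈ closure ({a3, b} : Set Spor.M23), x ^ 3 = 1 := by
      have hcomm : ∀ x ∈ ({a3, b} : Set Spor.M23), ∀ y ∈ ({a3, b} : Set Spor.M23), x * y = y * x := by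
        rintro x (rfl | rfl) y (rfl | rfl)
        · rfl
        · exact hab
        · exact hab.symm
        · rfl
      have hc := Subgroup.isMulCommutative_closure hcomm
      intro x hx
      induction hx using Subgroup.closure_induction with
      | mem x hx =>
        rcases hx with rfl | rfl
        · exact ha3
        · exact hb3
      | one => exact one_pow 3
      | mul x y hx hy h1 h2 =>
        have h3 : Commute x y := congrArg Subtype.val (hc.is_comm.comm ⟨x, hx⟩ ⟨y, hy⟩)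
        rw [h3.mul_pow, h1, h2, one_mul]
      | inv x hx h1 => rw [inv_pow, h1, inv_one]
    rintro ⟨x, hx⟩
    exact ⟨1, Subtype.ext (by rw [pow_one]; exact key x hx)⟩
  · rintro ⟨z, hz⟩
    refine ⟨1, Subtype.ext ?_⟩
    rw [pow_one]
    show z ^ 3 = 1
    have hza : a3 * z = z * a3 := mem_centralizer_iff.1 hz a3 (subset_closure (Or.inl rfl))
    have hzb : b * z = z * b := mem_centralizer_iff.1 hz b (subset_closure (Or.inr rfl))
    have hmem : packOf (inc23 z : Equiv.Perm GolayPt) ∈ LA := by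
      rw [← tlA]
      refine packOf_mem_tl preA okA (inc23 z) ?_ (st_M23 (by decide +kernel) z)
      rw [← inc_a3, ← map_mul, ← map_mul, hza]
    have h1 := List.all_eq_true.1 LA_B3 _ hmem
    rw [Bool.or_eq_true, Nat.beq_eq] at h1
    have hQ := ok_packOf (inc23 z)
    have h2 : el (pcomp (packOf (inc23 z : Equiv.Perm GolayPt)) B3) =
        el (pcomp B3 (packOf (inc23 z : Equiv.Perm GolayPt))) := by
      rw [el_pcomp hQ B3_ok, el_pcomp B3_ok hQ, el_packOf, ← hb, ← map_mul, ← map_mul, hzb]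
    have h3 : ∀ i ∈ List.range 24, Nat.beq (papp (pcomp (packOf (inc23 z : Equiv.Perm GolayPt)) B3) i)
        (papp (pcomp B3 (packOf (inc23 z : Equiv.Perm GolayPt))) i) = true := by
      intro i hi
      have hi' : i < 24 := List.mem_range.1 hi
      have h4 := idx_el_smul (ok_pcomp hQ B3_ok) (pt i)
      have h5 := idx_el_smul (ok_pcomp B3_ok hQ) (pt i)
      rw [h2, h5, idx_pt hi'] at h4
      rw [Nat.beq_eq, h4]
    rcases h1 with h1 | h1
    · exfalso
      rw [Bool.not_eq_true'] at h1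
      rw [List.all_eq_true.2 h3] at h1
      exact absurd h1 (by decide)
    · apply inc23_injective
      rw [map_pow, map_one, ← el_packOf (inc23 z), ← el_ppow (ok_packOf _), h1, el_idP]

end

theorem cardM23 : Nat.card Spor.M23 = 10200960 := H715.Fpr.MathData.card23

theorem cent_m22 (P : Sylow 3 Spor.M22) : IsPGroup 3 (centralizer ((P : Subgroup Spor.M22) : Set Spor.M22)) := by
  have h3 : Fact (Nat.Prime 3) := ⟨Nat.prime_three⟩
  have hc22 : Nat.card Spor.M22 = 443520 := Cfsg.Agent.NotCT.Orders.m22 ⟨MulEquiv.refl _⟩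
  have : Finite Spor.M23 := Nat.finite_of_card_ne_zero (by rw [cardM23]; norm_num)
  have : Finite Spor.M22 := Nat.finite_of_card_ne_zero (by rw [hc22]; norm_num)
  obtain ⟨U, hU, hC⟩ := cent_m23
  have hle : Spor.M22 ≤ Spor.M23 := fun g hg => hg.1
  exact cent_of_hom (Subgroup.inclusion hle) (Subgroup.inclusion_injective hle) hU hC (n := 2)
    (by rw [hc22]; norm_num) (by rw [cardM23]; norm_num) P

end Cfsg.Agent.H968.Rat
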